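import Groth.Agent.H16Derived.KFlat.TildeStalk
import Groth.Agent.H15Site.LocCohDepth
import Mathlib.RingTheory.Localization.BaseChange

/-!
# Depth at the stalks of the sheaf of a module
-/

set_option autoImplicit false
set_option linter.style.haveILetI false

universe u

open CategoryTheory AlgebraicGeometry TensorProduct

namespace Groth.Agent.H24Punct

open Groth.Agent.H16Derived.KFlat

attribute [local instance] TildeStalk.algebra

theorem isLocalization_toRing (R : CommRingCat.{u}) (x : (Spec R : Scheme.{u})) :
    IsLocalization.AtPrime ((Spec R).presheaf.stalk x) (x : PrimeSpectrum R).asIdeal := by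
  exact inferInstanceAs (IsLocalization.AtPrime ((Spec.structureSheaf R).presheaf.stalk x) (x : PrimeSpectrum R).asIdeal)

theorem depth_stalk_tilde (A : Type u) [CommRing A] (M : ModuleCat.{u} A) (p : PrimeSpectrum A) :
    LocCoh.depth ((Spec (CommRingCat.of A)).presheaf.stalk (p : (Spec (CommRingCat.of A) : Scheme.{u})))
        ((tilde (R := CommRingCat.of A) M).presheaf.stalk (p : (Spec (CommRingCat.of A) : Scheme.{u}))) =
      LocCoh.depth (Localization.AtPrime p.asIdeal) (LocalizedModule p.asIdeal.primeCompl M) := by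
  let x : (Spec (CommRingCat.of A) : Scheme.{u}) := p
  let S := (Spec (CommRingCat.of A)).presheaf.stalk x
  letI : Algebra A S := TildeStalk.algebra (R := CommRingCat.of A) x
  haveI : IsLocalization p.asIdeal.primeCompl S := isLocalization_toRing (CommRingCat.of A) x
  let L := Localization.AtPrime p.asIdeal
  let σ : L ≃ₐ[A] S := IsLocalization.algEquiv p.asIdeal.primeCompl L S
  let e₁ : L ⊗[A] M ≃ₗ[L] LocalizedModule p.asIdeal.primeCompl M :=
    (IsLocalizedModule.isBaseChange p.asIdeal.primeCompl L (LocalizedModule.mkLinearMap p.asIdeal.primeCompl M)).equiv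
  let e₂ : L ⊗[A] M ≃ₗ[A] S ⊗[A] M := TensorProduct.congr σ.toLinearEquiv (LinearEquiv.refl A M)
  have h₂ : ∀ (r : L) (m : L ⊗[A] M), e₂ (r • m) = σ r • e₂ m := fun r m => by
    induction m using TensorProduct.induction_on with
    | zero => rw [smul_zero, map_zero, smul_zero]
    | tmul l n =>
      show e₂ ((r * l) ⊗ₜ[A] n) = σ r • (σ l ⊗ₜ[A] n)
      rw [TensorProduct.smul_tmul', smul_eq_mul, ← map_mul]
      rfl
    | add a b ha hb => rw [smul_add, map_add, map_add, ha, hb, smul_add]
  refine ((H15Site.LocCohDepth.depth_eq_of_semilinear σ.toRingEquiv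
    ((e₁.symm.toAddEquiv.trans e₂.toAddEquiv).trans (TildeStalk.stalkEquiv (R := CommRingCat.of A) M x).toAddEquiv)
    fun r m => ?_)).symm
  show TildeStalk.stalkEquiv (R := CommRingCat.of A) M x (e₂ (e₁.symm (r • m))) =
    σ r • TildeStalk.stalkEquiv (R := CommRingCat.of A) M x (e₂ (e₁.symm m))
  rw [map_smul, h₂]
  exact map_smul (TildeStalk.stalkEquiv (R := CommRingCat.of A) M x) _ _

end Groth.Agent.H24Punct
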