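import Groth.Agent.H24Punct.Finite
import Groth.Agent.H24Punct.DepthTilde
import Groth.Agent.H24Formal.ModPow
import Groth.Agent.H24Adic.Basic
import Groth.Agent.H10Coh.OpenSpec
import Groth.Agent.H4LC.FaltingsImage
import Groth.Agent.S2930
import Groth.Prelude.Def_RefHull

/-!
# Formal functions on the complement of a closed subset, under a depth hypothesis
-/

set_option autoImplicit false
set_option linter.style.haveILetI false

universe u

open CategoryTheory CategoryTheory.Limits AlgebraicGeometry Opposite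

attribute [-instance] CategoryTheory.catToReflQuiver

namespace Groth.Agent.H24Punct

attribute [local instance 10000] H10Coh.hasSheafifyAb H10Coh.hasWeakSheafifyAb H10Coh.hasExtAb H10Coh.enoughInjAb

section generic

variable {A : Type u} [CommRing A] {X : Scheme.{u}} [X.Over (Spec (CommRingCat.of A))]

theorem mem_span_pow_smul_top {H : Type u} [AddCommGroup H] [Module A H] (t : A) (m : ℕ) (y : H) :
    y ∈ (Ideal.span {t} ^ m • ⊤ : Submodule A H) ↔ ∃ w, t ^ m • w = y := by
  rw [Ideal.span_singleton_pow, Submodule.ideal_span_singleton_smul]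
  exact ⟨fun ⟨w, _, hw⟩ => ⟨w, hw⟩, fun ⟨w, hw⟩ => ⟨w, Submodule.mem_top, hw⟩⟩

theorem mono_smulMod_pow (t : A) (F : X.Modules) (h : Mono (Formal.smulMod A F t)) :
    ∀ k : ℕ, Mono (Formal.smulMod A F (t ^ (k + 1)))
  | 0 => by rw [zero_add, pow_one]; exact h
  | k + 1 => by
    haveI := mono_smulMod_pow t F h k
    rw [pow_succ', ← H24Formal.smulMod_mul]
    exact mono_comp _ _

/-- The sequence `0 → F → F → F/t^(k+1)F → 0`. -/
noncomputable def seqPow (t : A) (F : X.Modules) (k : ℕ) : ShortComplex X.Modules :=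
  ShortComplex.mk (Formal.smulMod A F (t ^ (k + 1))) (Formal.modPowπ (Ideal.span {t}) (k + 1) F)
    (H24Formal.smulMod_pow_π t (k + 1) F)

theorem shortExact_seqPow (t : A) (F : X.Modules) (h : Mono (Formal.smulMod A F t)) (k : ℕ) :
    (seqPow t F k).ShortExact :=
  haveI : Mono (seqPow t F k).f := mono_smulMod_pow t F h k
  haveI : Epi (seqPow t F k).g := H24Formal.epi_modPowπ _ _ _
  { exact := H24Formal.exact_smulMod_π t (k + 1) F }

/-- The transition between the sequences. -/
noncomputable def seqPowTrans (t : A) (F : X.Modules) (k : ℕ) : seqPow t F (k + 1) ⟶ seqPow t F k where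
  τ₁ := Formal.smulMod A F t
  τ₂ := 𝟙 F
  τ₃ := Formal.modPowTrans (Ideal.span {t}) (k + 1) F
  comm₁₂ := by
    dsimp [seqPow]
    rw [Category.comp_id, H24Formal.smulMod_mul, ← pow_succ]
  comm₂₃ := by
    dsimp [seqPow]
    rw [Category.id_comp, Formal.modPowπ_trans]

/-- A map out of a complete module onto a compatible system hits every compatible family. -/
theorem exists_lift_of_complete {H : Type u} [AddCommGroup H] [Module A H] (t : A)
    [IsPrecomplete (Ideal.span {t}) H] {Q : ℕ → Type u} [∀ k, AddCommGroup (Q k)] [∀ k, Module A (Q k)]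
    (g : ∀ k, H →ₗ[A] Q k) (τ : ∀ k, Q (k + 1) → Q k) (hg : ∀ k x, τ k (g (k + 1) x) = g k x)
    (hker : ∀ k x, g k x = 0 → ∃ w, t ^ (k + 1) • w = x) (hkill : ∀ k w, g k (t ^ (k + 1) • w) = 0)
    (z : ∀ k, Q k) (hz : ∀ k, τ k (z (k + 1)) = z k) (x : ℕ → H) (hx : ∀ k, g k (x k) = z k) :
    ∃ L, ∀ k, g k L = z k := by
  have hnext : ∀ k, g k (x (k + 1)) = z k := fun k => by rw [← hg, hx, hz]
  have hstep : ∀ k, x k ≡ x (k + 1) [SMOD (Ideal.span {t} ^ k • ⊤ : Submodule A H)] := fun k => by
    rw [SModEq.sub_mem, mem_span_pow_smul_top]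
    obtain ⟨w, hw⟩ := hker k (x k - x (k + 1)) (by rw [map_sub, hx, hnext, sub_self])
    exact ⟨t • w, by rw [smul_smul, ← pow_succ]; exact hw⟩
  obtain ⟨L, hL⟩ := IsPrecomplete.prec (inferInstance : IsPrecomplete (Ideal.span {t}) H) (f := x)
    fun {a b} hab => by
      induction b, hab using Nat.le_induction with
      | base => rfl
      | succ b hab ih =>
        exact ih.trans ((hstep b).mono (Submodule.smul_mono_left (Ideal.pow_le_pow_right hab)))
  refine ⟨L, fun k => ?_⟩
  have h1 := hL (k + 1)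
  rw [SModEq.sub_mem, mem_span_pow_smul_top] at h1
  obtain ⟨w, hw⟩ := h1
  have h0 := hkill k w
  rw [hw, map_sub, sub_eq_zero, hnext] at h0
  exact h0.symm

theorem eq_zero_of_forall_div {H : Type u} [AddCommGroup H] [Module A H] (t : A) [IsHausdorff (Ideal.span {t}) H]
    (x : H) (h : ∀ k : ℕ, ∃ w, t ^ (k + 1) • w = x) : x = 0 :=
  IsHausdorff.haus ‹_› x fun m => by
    obtain ⟨w, hw⟩ := h m
    rw [SModEq.zero, mem_span_pow_smul_top]
    exact ⟨t • w, by rw [smul_smul, ← pow_succ]; exact hw⟩

theorem lin_π_pow_smul (t : A) (F : X.Modules) (i k : ℕ) (w : Coh.HH X F i) :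
    Canon.HHlin A (Formal.modPowπ (Ideal.span {t}) (k + 1) F) i (t ^ (k + 1) • w) = 0 := by
  rw [← H24Algz5.lin_smulMod F (t ^ (k + 1)) i w, ← H24Algz5.lin_comp_apply, H24Formal.smulMod_pow_π]
  exact H24Algz5.lin_zero_apply i w

variable [IsNoetherianRing A] (t : A) [IsAdicComplete (Ideal.span {t}) A] (F : X.Modules)
  (hreg : Mono (Formal.smulMod A F t))

omit [IsNoetherianRing A] [IsAdicComplete (Ideal.span {t}) A] in
theorem toHHlim_apply (i : ℕ) (x : Coh.HH X F i) (k : ℕ) :
    (Formal.toHHlim (Ideal.span {t}) F i x).1 k = Canon.HHlin A (seqPow t F k).g i x := rfl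

include hreg in
theorem toHHlim_injective_of_finite (i : ℕ) (hfin : Module.Finite A (Coh.HH X F i)) :
    Function.Injective (Formal.toHHlim (Ideal.span {t}) F i) := by
  haveI := hfin
  haveI : IsAdicComplete (Ideal.span {t}) (Coh.HH X F i) := H24Adic.isAdicComplete_of_finite _
  refine (injective_iff_map_eq_zero _).2 fun x hx => eq_zero_of_forall_div t x fun k => ?_
  obtain ⟨w, hw⟩ := H24Algz5.exists_of_lin_g_eq_zero (A := A) (shortExact_seqPow t F hreg k) i x
    ((toHHlim_apply t F i x k).symm.trans (by rw [hx]; rfl))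
  exact ⟨w, hw⟩

include hreg in
theorem δH_family_eq_zero (i : ℕ) (hfin : Module.Finite A (Coh.HH X F (i + 1)))
    (z : Formal.HHlim (Ideal.span {t}) F i) (k : ℕ) :
    H24Algz5.δH (shortExact_seqPow t F hreg k) i (z.1 k) = 0 := by
  haveI := hfin
  haveI : IsAdicComplete (Ideal.span {t}) (Coh.HH X F (i + 1)) := H24Adic.isAdicComplete_of_finite _
  let d : ℕ → Coh.HH X F (i + 1) := fun k => H24Algz5.δH (shortExact_seqPow t F hreg k) i (z.1 k)
  have hd : ∀ k, d k = t • d (k + 1) := fun k => by
    refine Eq.trans ?_ ((H24Algz5.δH_natural (A := A) (shortExact_seqPow t F hreg (k + 1))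
      (shortExact_seqPow t F hreg k) (seqPowTrans t F k) i (z.1 (k + 1))).trans
      (H24Algz5.lin_smulMod F t (i + 1) _))
    exact congrArg (H24Algz5.δH (shortExact_seqPow t F hreg k) i) (z.2 k).symm
  have hd' : ∀ m k, d k = t ^ m • d (k + m) := by
    intro m
    induction m with
    | zero => intro k; exact (pow_zero t).symm ▸ (one_smul A (d k)).symm
    | succ m ih => intro k; rw [ih k, hd (k + m), smul_smul, ← pow_succ]; rfl
  exact eq_zero_of_forall_div t (d k) fun m => ⟨_, (hd' (m + 1) k).symm⟩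

include hreg in
/-- If the cohomology is finite up to degree `n`, it is the limit of the cohomology of the truncations
below degree `n`, and injects in it in degree `n`. -/
theorem toHHlim_of_finite (n : ℕ) (hfin : ∀ i, i ≤ n → Module.Finite A (Coh.HH X F i)) (i : ℕ) :
    (i < n → Function.Bijective (Formal.toHHlim (Ideal.span {t}) F i)) ∧
      (i = n → Function.Injective (Formal.toHHlim (Ideal.span {t}) F i)) := by
  refine ⟨fun hi => ⟨toHHlim_injective_of_finite t F hreg i (hfin i hi.le), fun z => ?_⟩,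
    fun hi => toHHlim_injective_of_finite t F hreg i (hfin i hi.le)⟩
  haveI := hfin i hi.le
  haveI : IsAdicComplete (Ideal.span {t}) (Coh.HH X F i) := H24Adic.isAdicComplete_of_finite _
  choose x hx using fun k => H24Algz5.exists_of_δH_eq_zero (A := A) (shortExact_seqPow t F hreg k) i (z.1 k)
    (δH_family_eq_zero t F hreg i (hfin (i + 1) hi) z k)
  have hg : ∀ (k : ℕ) (y : Coh.HH X F i), Formal.HHmodPowTrans (Ideal.span {t}) F i k
      (Canon.HHlin A (Formal.modPowπ (Ideal.span {t}) (k + 1 + 1) F) i y) =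
      Canon.HHlin A (Formal.modPowπ (Ideal.span {t}) (k + 1) F) i y := fun k y =>
    (Formal.toHHlim (Ideal.span {t}) F i y).2 k
  obtain ⟨L, hL⟩ := exists_lift_of_complete (H := Coh.HH X F i) t
    (Q := fun k => Coh.HH X (Formal.modPow (Ideal.span {t}) (k + 1) F) i)
    (fun k => Canon.HHlin A (Formal.modPowπ (Ideal.span {t}) (k + 1) F) i)
    (fun k => Formal.HHmodPowTrans (Ideal.span {t}) F i k) hg
    (fun k y hy => H24Algz5.exists_of_lin_g_eq_zero (A := A) (shortExact_seqPow t F hreg k) i y hy)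
    (fun k w => lin_π_pow_smul t F i k w) z.1 z.2 x hx
  exact ⟨L, Subtype.ext (funext fun k => (toHHlim_apply t F i L k).trans (hL k))⟩

end generic

variable (A : Type u) [CommRing A] (I : Ideal A)

theorem iSup_basicOpen_eq :
    (⨆ f : ↥I, (Spec (CommRingCat.of A)).basicOpen ((Scheme.ΓSpecIso (CommRingCat.of A)).inv f.1)) =
      LocCoh.puncturedOpen A I := by
  refine TopologicalSpace.Opens.ext (Set.ext fun p => ?_)
  simp only [TopologicalSpace.Opens.coe_iSup, Set.mem_iUnion, SetLike.mem_coe]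
  show (∃ f : ↥I, _) ↔ ¬ ((I : Set A) ⊆ ((p : PrimeSpectrum A).asIdeal : Set A))
  rw [Set.not_subset]
  constructor
  · rintro ⟨f, hf⟩
    rw [basicOpen_eq_of_affine] at hf
    exact ⟨f.1, f.2, hf⟩
  · rintro ⟨f, hf, hfp⟩
    refine ⟨⟨f, hf⟩, ?_⟩
    rw [basicOpen_eq_of_affine]
    exact hfp

/-- Depths of stalks do not change along an isomorphism. -/
theorem depth_stalk_congr {X : Scheme.{u}} {F G : X.Modules} (e : F ≅ G) (x : X) :
    LocCoh.depth (X.presheaf.stalk x) (F.presheaf.stalk x) =
      LocCoh.depth (X.presheaf.stalk x) (G.presheaf.stalk x) := by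
  haveI : IsIso e.hom.mapPresheaf := inferInstanceAs (IsIso ((Scheme.Modules.toPresheaf X).map e.hom))
  exact H4Depth.depth_congr (LinearEquiv.ofBijective (RefHull.stalkMapₗ e.hom x)
    (ConcreteCategory.bijective_of_isIso ((TopCat.Presheaf.stalkFunctor Ab x).map e.hom.mapPresheaf)))

variable [IsNoetherianRing A]

theorem finite_HH_of_depth (R : Type u) [CommRing R] [IsRegularRing R] (π : R →+* A) (hπ : Function.Surjective π)
    (F : (LocCoh.puncturedOpen A I : Scheme.{u}).Modules) (hF : Coh.IsCoh F) (n : ℕ)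
    (hdepth : ∀ x : (LocCoh.puncturedOpen A I : Scheme.{u}),
      SGA2.relCodim I ((LocCoh.puncturedOpen A I).ι.base x) = 1 →
        ((n + 1 : ℕ) : ℕ∞) ≤ LocCoh.depth ((LocCoh.puncturedOpen A I : Scheme.{u}).presheaf.stalk x)
          (F.presheaf.stalk x)) :
    ∀ i, i ≤ n → Module.Finite A (Coh.HH (LocCoh.puncturedOpen A I : Scheme.{u}) F i) := by
  obtain ⟨N, hN, ⟨e⟩⟩ := @H10Coh.exists_finite_tilde_restrict (CommRingCat.of A) _ (LocCoh.puncturedOpen A I) F hF
  haveI : Module.Finite A N := hN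
  letI : Algebra R A := π.toAlgebra
  have hH := (S2930.result R A π hπ I N (n + 1)).2 fun p q hp hq hcov => by
    have hc := H4LC.relCodim_eq_one_of_covBy (S := R) (R := A) hπ hp hq hcov
    let x : (LocCoh.puncturedOpen A I : Scheme.{u}) := ⟨p, fun h => hp (SetLike.coe_subset_coe.1 h)⟩
    have h := hdepth x hc
    rwa [depth_stalk_congr e x, H15Site.LocCohDepth.depth_restrict, depth_stalk_tilde A N p] at h
  intro i hi
  haveI : Module.Finite A (Coh.HH (LocCoh.puncturedOpen A I : Scheme.{u})
      ((tilde (R := CommRingCat.of A) N).restrict (LocCoh.puncturedOpen A I).ι) i) :=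
    finite_HH A I i N hN fun j hj => hH j (by omega)
  refine Module.Finite.of_surjective (Canon.HHlin A e.inv i) fun y => ⟨Canon.HHlin A e.hom i y, ?_⟩
  refine (H24Algz5.lin_comp_apply (A := A) _ _ i y).symm.trans ?_
  rw [e.hom_inv_id]
  exact H24Algz5.lin_id_apply F i y

theorem toHHlim_of_depth (R : Type u) [CommRing R] [IsRegularRing R] (π : R →+* A) (hπ : Function.Surjective π)
    (t : A) [IsAdicComplete (Ideal.span {t}) A] (U : (Spec (CommRingCat.of A)).Opens)
    (hU : U = LocCoh.puncturedOpen A I)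
    (F : (U : Scheme.{u}).Modules) (hF : Coh.IsCoh F) (hreg : Mono (Formal.smulMod A F t)) (n : ℕ)
    (hdepth : ∀ x : (U : Scheme.{u}), SGA2.relCodim I (U.ι.base x) = 1 →
        ((n + 1 : ℕ) : ℕ∞) ≤ LocCoh.depth ((U : Scheme.{u}).presheaf.stalk x) (F.presheaf.stalk x)) (i : ℕ) :
    (i < n → Function.Bijective (Formal.toHHlim (Ideal.span {t}) F i)) ∧
      (i = n → Function.Injective (Formal.toHHlim (Ideal.span {t}) F i)) := by
  subst hU
  exact toHHlim_of_finite t F hreg n (finite_HH_of_depth A I R π hπ F hF n hdepth) i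

omit [IsNoetherianRing A] in
theorem puncturedSpec_eq [IsLocalRing A] :
    FEt.puncturedSpec A = LocCoh.puncturedOpen A (IsLocalRing.maximalIdeal A) := by
  refine TopologicalSpace.Opens.ext ?_
  show ({IsLocalRing.closedPoint A}ᶜ : Set (PrimeSpectrum A)) =
    (PrimeSpectrum.zeroLocus (R := A) (IsLocalRing.maximalIdeal A : Set A))ᶜ
  refine congrArg compl (Set.ext fun p => ?_)
  rw [PrimeSpectrum.mem_zeroLocus, Set.mem_singleton_iff]
  exact ⟨fun h => h ▸ subset_rfl, fun h => PrimeSpectrum.ext
    ((IsLocalRing.maximalIdeal.isMaximal A).eq_of_le p.isPrime.ne_top h).symm⟩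

omit [IsNoetherianRing A] in
/-- Nothing lies strictly between a prime at relative codimension one and the maximal ideal. -/
theorem eq_of_relCodim_eq_one [IsLocalRing A] (p q : PrimeSpectrum A) (hpq : p ≤ q)
    (hq : q ≠ IsLocalRing.closedPoint A) (hp : SGA2.relCodim (IsLocalRing.maximalIdeal A) p = 1) : p = q := by
  by_contra hne
  have hle : (2 : ℕ∞) ≤ SGA2.relCodim (IsLocalRing.maximalIdeal A) p := le_iInf fun r => by
    have hr : r.1 = IsLocalRing.closedPoint A :=
      le_antisymm (IsLocalRing.le_maximalIdeal r.1.isPrime.ne_top) r.2.2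
    let B : Set.Ici p := ⟨p, le_refl p⟩
    let Y : Set.Ici p := ⟨q, hpq⟩
    let Q : Set.Ici p := ⟨r.1, r.2.1⟩
    have hBY : B < Y := lt_of_le_of_ne hpq fun h => hne (congrArg Subtype.val h)
    have hYQ : Y < Q := show q < r.1 from hr ▸ lt_of_le_of_ne
      (show q ≤ IsLocalRing.closedPoint A from IsLocalRing.le_maximalIdeal q.isPrime.ne_top) hq
    have a1 : Order.height B + 1 ≤ Order.height Y := Order.height_add_one_le hBY
    have a2 : Order.height Y + 1 ≤ Order.height Q := Order.height_add_one_le hYQ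
    calc (2 : ℕ∞) = (0 + 1) + 1 := by norm_num
      _ ≤ (Order.height B + 1) + 1 := by gcongr; exact zero_le
      _ ≤ Order.height Q := (add_le_add a1 le_rfl).trans a2
  rw [hp] at hle
  exact absurd hle (by norm_num)

omit [IsNoetherianRing A] in
/-- A point of the punctured spectrum at relative codimension one is closed. -/
theorem isClosed_singleton_of_relCodim [IsLocalRing A] (x : (FEt.puncturedSpec A : Scheme.{u}))
    (hx : SGA2.relCodim (IsLocalRing.maximalIdeal A) ((FEt.puncturedSpec A).ι.base x) = 1) :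
    IsClosed ({x} : Set (FEt.puncturedSpec A : Scheme.{u})) := by
  refine closure_subset_iff_isClosed.1 fun y hy => ?_
  let px : PrimeSpectrum A := x.1
  let py : PrimeSpectrum A := y.1
  have h1 : px ≤ py :=
    (PrimeSpectrum.le_iff_specializes px py).2 (((specializes_iff_mem_closure).2 hy).map continuous_subtype_val)
  exact Subtype.ext (eq_of_relCodim_eq_one A px py h1 y.2 hx).symm

end Groth.Agent.H24Punct
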