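import Groth.Agent.H24Punct.Killed
import Groth.Agent.H4LC.FaltingsApps
import Groth.Agent.H4LC.Artinian

/-!
# Finiteness of the cohomology of an open of an affine scheme
-/

set_option autoImplicit false
set_option linter.style.haveILetI false

universe u

open CategoryTheory CategoryTheory.Limits AlgebraicGeometry Opposite

attribute [-instance] CategoryTheory.catToReflQuiver

namespace Groth.Agent.H24Punct

attribute [local instance 10000] H10Coh.hasSheafifyAb H10Coh.hasWeakSheafifyAb H10Coh.hasExtAb H10Coh.enoughInjAb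

open H24Formal2.Bridge (tU)

variable (A : Type u) [CommRing A] [IsNoetherianRing A] (a : Ideal A)

local notation "U" => LocCoh.puncturedOpen A a

theorem exists_mem_regular (M : Type u) [AddCommGroup M] [Module A M] [Module.Finite A M]
    (hM : DRing.torsionSub a M = ⊥) : ∃ x ∈ a, IsSMulRegular M x := by
  by_contra! h
  obtain ⟨p, hp, hle⟩ := Groth.Agent.H4Depth.exists_associatedPrime_ge_of_no_regular (I := a) (M := M) h
  have hp' : IsAssociatedPrime p M := hp
  obtain ⟨hpr, z, hz⟩ := isAssociatedPrime_iff.1 hp'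
  have hz0 : z ∈ DRing.torsionSub a M := ⟨1, fun b hb => by
    have hb' : b ∈ p := hle (by rwa [pow_one] at hb)
    rw [hz, Submodule.mem_colon_singleton, Submodule.mem_bot] at hb'
    exact hb'⟩
  rw [hM, Submodule.mem_bot] at hz0
  refine hpr.ne_top ((Ideal.eq_top_iff_one p).2 ?_)
  rw [hz, hz0, Submodule.mem_colon_singleton, Submodule.mem_bot, smul_zero]

/-- The sheaf of a torsion module has no cohomology. -/
theorem subsingleton_of_torsion (M : ModuleCat.{u} A) (hM : LocCoh.IsPowerTorsion a M) (i : ℕ) :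
    Subsingleton (Coh.HH (U : Scheme.{u}) ((tU A U).obj M) i) := by
  obtain ⟨η, -, hη0, hηs⟩ := exists_ηX A a
  refine subsingleton_of_forall_eq 0 fun x => ?_
  rcases i with _ | i
  · haveI := H4LC.subsingleton_H_of_isPowerTorsion a 1 M hM Nat.one_pos
    obtain ⟨m, hm⟩ := hηs M 1 (fun z => Subsingleton.elim _ _) x
    rw [one_smul] at hm
    rw [← hm, hη0]
    exact hM m
  · haveI := H4LC.subsingleton_H_of_isPowerTorsion a (i + 2) M hM (Nat.succ_pos _)
    have h := smul_eq_zero_of_killed A a i M 1 (fun z => Subsingleton.elim _ _) x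
    rwa [one_smul] at h

theorem exists_killer {i : ℕ} (M : Type u) [AddCommGroup M] [Module A M]
    (h : Module.Finite A (LocCoh.H a i M)) (c : A) (hc : c ∈ a) :
    ∃ k : ℕ, ∀ z : LocCoh.H a i M, c ^ k • z = 0 := by
  haveI := h
  exact H4LC.exists_pow_smul_eq_zero_of_finite a (H4LC.isPowerTorsion_H a i M) hc

/-- Finite local cohomology gives finite cohomology of the open. -/
theorem finite_HH : ∀ (i : ℕ) (M : ModuleCat.{u} A), Module.Finite A M →
    (∀ j, j ≤ i + 1 → Module.Finite A (LocCoh.H a j M)) →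
      Module.Finite A (Coh.HH (U : Scheme.{u}) ((tU A U).obj M) i) := by
  intro i
  induction i using Nat.strong_induction_on with
  | _ i ih => ?_
  intro M hMfin hH
  haveI := hMfin
  -- reduction to a module without torsion
  let T := DRing.torsionSub a M
  let g : M →ₗ[A] (M ⧸ T) := T.mkQ
  have hfg : Function.Exact T.subtype g := LinearMap.exact_subtype_mkQ T
  obtain ⟨S, hSdef, hS⟩ := shortExact_tU A a T.subtype g Subtype.val_injective T.mkQ_surjective hfg
  subst hSdef
  haveI hTsub := subsingleton_of_torsion A a (ModuleCat.of A T) (H4LC.isPowerTorsion_torsionSub a M) i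
  have hinj : Function.Injective (Canon.HHlin A ((tU A U).map (ModuleCat.ofHom g)) i) := by
    refine (injective_iff_map_eq_zero _).2 fun y hy => ?_
    obtain ⟨x, hx⟩ := H24Algz5.exists_of_lin_g_eq_zero (A := A) hS i y hy
    rw [← hx]
    exact (congrArg _ (Subsingleton.elim (α := Coh.HH (U : Scheme.{u}) ((tU A U).obj (ModuleCat.of A T)) i) x 0)).trans
      (map_zero _)
  suffices h : Module.Finite A (Coh.HH (U : Scheme.{u}) ((tU A U).obj (ModuleCat.of A (M ⧸ T))) i) by
    haveI : IsNoetherian A (Coh.HH (U : Scheme.{u}) ((tU A U).obj (ModuleCat.of A (M ⧸ T))) i) :=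
      isNoetherian_of_isNoetherianRing_of_finite _ _
    exact Module.Finite.of_injective _ hinj
  let N := M ⧸ T
  have hN0 : DRing.torsionSub a N = ⊥ := H4LC.torsionSub_quotient_eq_bot a M
  have hHN : ∀ j, j ≤ i + 1 → Module.Finite A (LocCoh.H a j N) := fun j hj => by
    haveI := hH j hj
    haveI := H4LC.subsingleton_H_of_isPowerTorsion a (j + 1) T (H4LC.isPowerTorsion_torsionSub a M) (Nat.succ_pos j)
    refine Module.Finite.of_surjective (H4LC.Hmap a g j) fun z => ?_
    exact (H4LC.exactH₃ a Subtype.val_injective T.mkQ_surjective hfg j z).1 (Subsingleton.elim _ _)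
  obtain ⟨c₀, hc₀, hreg⟩ := exists_mem_regular A a N hN0
  obtain ⟨k, hk⟩ := exists_killer A a N (hHN (i + 1) le_rfl) c₀ hc₀
  let c := c₀ ^ (k + 1)
  have hc : IsSMulRegular N c := hreg.pow _
  have hkill : ∀ z : LocCoh.H a (i + 1) N, c • z = 0 := fun z => by
    rw [show c = c₀ * c₀ ^ k from pow_succ' c₀ k, mul_smul, hk, smul_zero]
  let f' : N →ₗ[A] N := c • LinearMap.id
  let g' : N →ₗ[A] (N ⧸ LinearMap.range f') := (LinearMap.range f').mkQ
  have hfg' : Function.Exact f' g' := LinearMap.exact_map_mkQ_range f'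
  have hf' : Function.Injective f' := hc
  obtain ⟨S', hS'def, hS'⟩ := shortExact_tU A a f' g' hf' (Submodule.mkQ_surjective _) hfg'
  subst hS'def
  rcases i with _ | i
  · obtain ⟨η, -, -, hηs⟩ := exists_ηX A a
    have hinj0 : ∀ y : Coh.HH (U : Scheme.{u}) ((tU A U).obj (ModuleCat.of A N)) 0, c • y = 0 → y = 0 := fun y hy => by
      refine H24Algz5.lin_f_injective_zero (A := A) hS' ((lin_smul A a c (ModuleCat.of A N) 0 y).trans ?_)
      rw [hy]
      exact (map_zero _).symm
    let ψ := LinearMap.lsmul A (Coh.HH (U : Scheme.{u}) ((tU A U).obj (ModuleCat.of A N)) 0) c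
    have hψ : ∀ y, ψ y ∈ LinearMap.range (η (ModuleCat.of A N)) := fun y => by
      obtain ⟨m, hm⟩ := hηs (ModuleCat.of A N) c hkill y
      exact ⟨m, hm⟩
    haveI : IsNoetherian A (LinearMap.range (η (ModuleCat.of A N))) := isNoetherian_of_isNoetherianRing_of_finite _ _
    refine Module.Finite.of_injective (ψ.codRestrict _ hψ) fun y y' hyy => ?_
    refine sub_eq_zero.1 (hinj0 _ ?_)
    rw [smul_sub, sub_eq_zero]
    exact congrArg Subtype.val hyy
  · have hHQ : ∀ j, j ≤ i + 1 → Module.Finite A (LocCoh.H a j (N ⧸ LinearMap.range f')) := fun j hj => by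
      haveI := hHN j (by omega)
      haveI := hHN (j + 1) (by omega)
      haveI : IsNoetherian A (LocCoh.H a j N) := isNoetherian_of_isNoetherianRing_of_finite _ _
      haveI : IsNoetherian A (LocCoh.H a (j + 1) N) := isNoetherian_of_isNoetherianRing_of_finite _ _
      haveI := isNoetherian_of_range_eq_ker (H4LC.Hmap a g' j)
        (H4LC.δH a hf' (Submodule.mkQ_surjective _) hfg' j)
        (LinearMap.exact_iff.1 (H4LC.exactH₃ a hf' (Submodule.mkQ_surjective _) hfg' j)).symm
      infer_instance
    haveI := ih i (Nat.lt_succ_self i) (ModuleCat.of A (N ⧸ LinearMap.range f')) inferInstance hHQ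
    let δl : Coh.HH (U : Scheme.{u}) ((tU A U).obj (ModuleCat.of A (N ⧸ LinearMap.range f'))) i →ₗ[A]
        Coh.HH (U : Scheme.{u}) ((tU A U).obj (ModuleCat.of A N)) (i + 1) :=
      { H24Algz5.δH hS' i with map_smul' := fun b x => δ_smul A a hS' i b x }
    refine Module.Finite.of_surjective δl fun x => ?_
    refine Abelian.Ext.covariant_sequence_exact₁ _ (H10Coh.shortExact_sh hS') x ?_ (show i + 1 = i + 1 from rfl)
    refine (lin_smul A a c (ModuleCat.of A N) (i + 1) x).trans ?_
    exact smul_eq_zero_of_killed A a i (ModuleCat.of A N) c hkill x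

end Groth.Agent.H24Punct
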