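import Groth.Agent.H24Formal2.PunctBridge
import Groth.Agent.H24Formal2.PunctTorsion
import Groth.Agent.H24Algz5.Coh
import Groth.Agent.H4LC.Torsion
import Groth.Prelude.Def_CxOX

/-!
# Linear killing of the cohomology of an open of an affine scheme
-/

set_option autoImplicit false
set_option linter.style.haveILetI false

universe u

open CategoryTheory CategoryTheory.Limits AlgebraicGeometry Opposite

attribute [-instance] CategoryTheory.catToReflQuiver

namespace Groth.Agent.H24Punct

attribute [local instance 10000] H10Coh.hasSheafifyAb H10Coh.hasWeakSheafifyAb H10Coh.hasExtAb H10Coh.enoughInjAb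

open H24Formal2.Bridge (tU)

variable (A : Type u) [CommRing A] [IsNoetherianRing A] (a : Ideal A)

local notation "U" => LocCoh.puncturedOpen A a

/-- Scalars of modules are scalars of sheaves. -/
theorem map_smul_tU (c : A) (M : ModuleCat.{u} A) :
    (tU A U).map (ModuleCat.ofHom (c • LinearMap.id : M →ₗ[A] M)) = Formal.smulMod A ((tU A U).obj M) c := by
  letI : (Spec (CommRingCat.of A)).Over (Spec (CommRingCat.of A)) := ⟨𝟙 _⟩
  exact (congrArg (Scheme.Modules.restrictFunctor (Scheme.Opens.ι U)).map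
    (H24Formal2.Bridge.map_smul_id A c rfl M)).trans (H24Formal2.Bridge.restrict_map_smulMod A U c rfl _)

theorem lin_smul (c : A) (M : ModuleCat.{u} A) (i : ℕ) (x : Coh.HH (U : Scheme.{u}) ((tU A U).obj M) i) :
    Canon.HHlin A ((tU A U).map (ModuleCat.ofHom (c • LinearMap.id : M →ₗ[A] M))) i x = c • x := by
  rw [map_smul_tU]
  exact H24Algz5.lin_smulMod _ c i x

instance : PreservesFiniteColimits (tU A U) := by
  haveI : PreservesFiniteColimits (tilde.functor (CommRingCat.of A)) :=
    @H10Coh.tilde_preservesFiniteColimits (CommRingCat.of A)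
  haveI : PreservesColimitsOfSize.{0, 0} (Scheme.Modules.restrictFunctor (Scheme.Opens.ι U)) :=
    haveI := (Scheme.Modules.restrictAdjunction (Scheme.Opens.ι U)).isLeftAdjoint
    inferInstance
  exact comp_preservesFiniteColimits _ _

/-- The image of a short exact sequence. -/
theorem shortExact_tU {L M N : Type u} [AddCommGroup L] [Module A L] [AddCommGroup M] [Module A M]
    [AddCommGroup N] [Module A N] (f : L →ₗ[A] M) (g : M →ₗ[A] N) (hf : Function.Injective f)
    (hg : Function.Surjective g) (hfg : Function.Exact f g) :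
    ∃ S : ShortComplex (ModuleCat.{u} A), S = ShortComplex.mk (ModuleCat.ofHom f) (ModuleCat.ofHom g)
      (ModuleCat.hom_ext (LinearMap.ext fun m => hfg.apply_apply_eq_zero m)) ∧ (S.map (tU A U)).ShortExact := by
  refine ⟨_, rfl, ?_⟩
  let S : ShortComplex (ModuleCat.{u} A) := ShortComplex.mk (ModuleCat.ofHom f) (ModuleCat.ofHom g)
    (ModuleCat.hom_ext (LinearMap.ext fun m => hfg.apply_apply_eq_zero m))
  have hS : S.ShortExact := ShortComplex.ShortExact.mk'
    ((ShortComplex.moduleCat_exact_iff S).2 fun y hy => (hfg y).1 hy)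
    ((ModuleCat.mono_iff_injective _).2 hf) ((ModuleCat.epi_iff_surjective _).2 hg)
  haveI : PreservesFiniteLimits (tilde.functor (CommRingCat.of A)) :=
    @H10Coh.tilde_preservesFiniteLimits (CommRingCat.of A)
  haveI : PreservesFiniteLimits (Scheme.Modules.restrictFunctor (Scheme.Opens.ι U)) :=
    haveI : (Scheme.Modules.restrictFunctor (Scheme.Opens.ι U)).IsRightAdjoint :=
      (CxOX.extZeroAdj (Scheme.Opens.ι U)).isRightAdjoint
    inferInstance
  haveI : PreservesFiniteLimits (tU A U) := comp_preservesFiniteLimits _ _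
  exact hS.map_of_exact (tU A U)

theorem exists_ηX : ∃ η : ∀ M : ModuleCat.{u} A, M →ₗ[A] Coh.HH (U : Scheme.{u}) ((tU A U).obj M) 0,
    (∀ {M N : ModuleCat.{u} A} (φ : M ⟶ N) (m : M),
      Canon.HHlin A ((tU A U).map φ) 0 (η M m) = η N (φ.hom m)) ∧
    (∀ (M : ModuleCat.{u} A) (m : M), η M m = 0 ↔ m ∈ DRing.torsionSub a M) ∧
    ∀ (M : ModuleCat.{u} A) (c : A), (∀ x : LocCoh.H a 1 M, c • x = 0) →
      ∀ y, ∃ m, η M m = c • y := by
  obtain ⟨e, he⟩ := H24Formal2.Bridge.exists_secEquiv A U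
  let η₀ : ∀ M : ModuleCat.{u} A, M →+ Coh.HH (U : Scheme.{u}) ((tU A U).obj M) 0 := fun M =>
    (e M).symm.toAddMonoidHom.comp (H24Formal2.η A a M)
  have hnat : ∀ {M N : ModuleCat.{u} A} (φ : M ⟶ N) (m : M),
      Canon.HHlin A ((tU A U).map φ) 0 (η₀ M m) = η₀ N (φ.hom m) := fun {M N} φ m => by
    refine (e N).injective ?_
    refine (he φ _).trans ?_
    show Formal2.HVmap A φ.hom 0 U (e M ((e M).symm (H24Formal2.η A a M m))) =
      e N ((e N).symm (H24Formal2.η A a N (φ.hom m)))
    rw [(e M).apply_symm_apply, (e N).apply_symm_apply]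
    exact H24Formal2.HVmap_η A a φ.hom m
  refine ⟨fun M => { η₀ M with map_smul' := fun c m => ?_ }, fun φ m => hnat φ m, fun M m => ?_, fun M c hc y => ?_⟩
  · exact (hnat (ModuleCat.ofHom (c • LinearMap.id : M →ₗ[A] M)) m).symm.trans (lin_smul A a c M 0 _)
  · refine Iff.trans ?_ (H24Formal2.η_eq_zero A a m)
    show (e M).symm (H24Formal2.η A a M m) = 0 ↔ _
    exact AddEquiv.map_eq_zero_iff (e M).symm
  · obtain ⟨m, hm⟩ := H24Formal2.exists_η_eq A a c hc (e M y)
    refine ⟨m, (e M).injective ?_⟩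
    show e M ((e M).symm (H24Formal2.η A a M m)) = e M (c • y)
    rw [(e M).apply_symm_apply, hm]
    have h1 := he (ModuleCat.ofHom (c • LinearMap.id : M →ₗ[A] M)) y
    rw [ModuleCat.hom_ofHom] at h1
    refine Eq.trans h1.symm ?_
    refine congrArg (e M) ?_
    exact lin_smul A a c M 0 y

theorem subsingleton_injective (J : ModuleCat.{u} A) [Injective J] (i : ℕ) :
    Subsingleton (Coh.HH (U : Scheme.{u}) ((tU A U).obj J) (i + 1)) := by
  obtain ⟨e⟩ := S0356.result A a J (i + 1) (Nat.le_add_left 1 i)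
  haveI : Subsingleton (LocCoh.H a (i + 1 + 1) J) :=
    H4LC.subsingleton_of_injective (H4LC.quotSys a) J (Nat.succ_pos _)
  exact e.toEquiv.subsingleton

/-- The endomorphism given by a scalar. -/
noncomputable def smulEndo (c : A) (S : ShortComplex (ModuleCat.{u} A)) : S ⟶ S where
  τ₁ := ModuleCat.ofHom (c • LinearMap.id)
  τ₂ := ModuleCat.ofHom (c • LinearMap.id)
  τ₃ := ModuleCat.ofHom (c • LinearMap.id)
  comm₁₂ := ModuleCat.hom_ext (LinearMap.ext fun m => map_smul S.f.hom c m)
  comm₂₃ := ModuleCat.hom_ext (LinearMap.ext fun m => map_smul S.g.hom c m)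

/-- The connecting map is linear. -/
theorem δ_smul {S : ShortComplex (ModuleCat.{u} A)} (hS : (S.map (tU A U)).ShortExact) (i : ℕ) (c : A)
    (x : Coh.HH (U : Scheme.{u}) ((tU A U).obj S.X₃) i) :
    H24Algz5.δH hS i (c • x) = c • H24Algz5.δH hS i x := by
  have h := H24Algz5.δH_natural (A := A) hS hS ((tU A U).mapShortComplex.map (smulEndo A c S)) i x
  refine Eq.trans ?_ (h.trans (lin_smul A a c S.X₁ (i + 1) _))
  exact congrArg (H24Algz5.δH hS i) (lin_smul A a c S.X₃ i x).symm

theorem δH_lin_g {X : Scheme.{u}} [X.Over (Spec (CommRingCat.of A))] {S : ShortComplex X.Modules} (hS : S.ShortExact)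
    (q : ℕ) (y : Coh.HH X S.X₂ q) : H24Algz5.δH hS q (Canon.HHlin A S.g q y) = 0 := by
  refine (Abelian.Ext.comp_assoc_of_second_deg_zero y _ _ rfl).trans ?_
  exact (congrArg (fun z => Abelian.Ext.comp y z (rfl : q + 1 = q + 1)) (H10Coh.shortExact_sh hS).comp_extClass).trans
    (Abelian.Ext.comp_zero _ _ _ _ _)

/-- An element killing `H^{i+2}_a(M)` kills `H^{i+1}(U, M~)`. -/
theorem smul_eq_zero_of_killed : ∀ (i : ℕ) (M : ModuleCat.{u} A) (c : A),
    (∀ x : LocCoh.H a (i + 2) M, c • x = 0) →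
      ∀ x : Coh.HH (U : Scheme.{u}) ((tU A U).obj M) (i + 1), c • x = 0 := by
  obtain ⟨η, hη, -, hηs⟩ := exists_ηX A a
  intro i
  induction i with
  | zero => ?_
  | succ i ih => ?_
  all_goals
    intro M c hc x
    let J : ModuleCat.{u} A := Injective.under M
    let f : M →ₗ[A] J := (Injective.ι M).hom
    have hf : Function.Injective f := (ModuleCat.mono_iff_injective _).1 (Injective.ι_mono _)
    let g : J →ₗ[A] (J ⧸ LinearMap.range f) := (LinearMap.range f).mkQ
    have hg : Function.Surjective g := Submodule.mkQ_surjective _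
    have hfg : Function.Exact f g := LinearMap.exact_map_mkQ_range f
    obtain ⟨S, hSdef, hS⟩ := shortExact_tU A a f g hf hg hfg
    subst hSdef
  · obtain ⟨q, rfl⟩ : ∃ q, H24Algz5.δH hS 0 q = x :=
      Abelian.Ext.covariant_sequence_exact₁ _ (H10Coh.shortExact_sh hS) x
        ((subsingleton_injective A a J 0).elim _ _) (show (0 : ℕ) + 1 = 0 + 1 from rfl)
    refine (δ_smul A a hS 0 c q).symm.trans ?_
    have hQ : ∀ z : LocCoh.H a 1 (J ⧸ LinearMap.range f), c • z = 0 := fun z =>
      H4LC.δH_injective a hf hg hfg 1 (H4LC.subsingleton_of_injective (H4LC.quotSys a) J Nat.one_pos)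
        ((map_smul _ c z).trans ((hc _).trans (map_zero _).symm))
    obtain ⟨m, hm⟩ := hηs (ModuleCat.of A (J ⧸ LinearMap.range f)) c hQ q
    obtain ⟨m', rfl⟩ := hg m
    rw [← hm]
    exact (congrArg (H24Algz5.δH hS 0) (hη (ModuleCat.ofHom g) m').symm).trans (δH_lin_g A hS 0 _)
  · obtain ⟨q, rfl⟩ : ∃ q, H24Algz5.δH hS (i + 1) q = x :=
      Abelian.Ext.covariant_sequence_exact₁ _ (H10Coh.shortExact_sh hS) x
        ((subsingleton_injective A a J (i + 1)).elim _ _) (show (i + 1) + 1 = i + 1 + 1 from rfl)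
    refine (δ_smul A a hS (i + 1) c q).symm.trans ?_
    have hQ : ∀ z : LocCoh.H a (i + 2) (J ⧸ LinearMap.range f), c • z = 0 := fun z =>
      H4LC.δH_injective a hf hg hfg (i + 2) (H4LC.subsingleton_of_injective (H4LC.quotSys a) J (Nat.succ_pos _))
        ((map_smul _ c z).trans ((hc _).trans (map_zero _).symm))
    exact (congrArg (H24Algz5.δH hS (i + 1)) (ih (ModuleCat.of A (J ⧸ LinearMap.range f)) c hQ q)).trans (map_zero _)

end Groth.Agent.H24Punct
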